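import Cfsg.Agent.H69.NonDiv.Fixed
import Cfsg.Agent.H28.AbelianIndex
import Cfsg.Agent.H21.ThompsonFpf

/-!
# Non-linear characters of the derived subgroup
-/

set_option autoImplicit false
set_option linter.style.haveILetI false
set_option linter.unusedSectionVars false

open scoped commutatorElement

namespace Cfsg.Agent.H69.NonDiv

variable {H : Type*} [Group H] [Finite H]

/-- Endomorphisms preserve the derived subgroup. -/
theorem map_commutator_le {K : Type*} [Group K] (f : K →* K) :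
    (commutator K).map f ≤ commutator K := by
  rw [commutator_def, Subgroup.map_commutator]
  exact Subgroup.commutator_mono le_top le_top

/-- Twisting a twisted character. -/
theorem twist_irrTwist [Fintype (commutator H)] (φ : Cfsg.IrrCharacter (commutator H)) (l : Lin H)
    (h : H) :
    H56.twist (commutator H) (H43.irrTwist φ l).1 h =
      fun m => H56.twist (commutator H) φ.1 h m * (cj h l m : ℂ) := by
  funext m
  show (H43.irrTwist φ l).1 _ = _
  rw [H43.irrTwist_apply]
  rfl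

variable (D : Data H) (hq : ¬ D.q ∣ Nat.card (commutator H))
include hq

/-- A non-linear character of the derived subgroup vanishes off its derived subgroup. -/
theorem vanish_below {l₀ : Lin H} (hl₀ : l₀ ≠ 1) [Fintype (commutator H)]
    (φ : Cfsg.IrrCharacter (commutator H)) (hφ : Cfsg.charDegree φ.1 ≠ 1)
    {m : commutator H} (hm : m ∉ commutator (commutator H)) : φ.1 m = 0 := by
  classical
  haveI := Fintype.ofFinite H
  set B := stab l₀
  obtain ⟨χ₀, hn₀, hd₀⟩ := exists_char_index D hq hl₀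
  -- every non-linear character is fixed by an element outside `B`
  have hout : ∀ θ : Cfsg.IrrCharacter (commutator H), Cfsg.charDegree θ.1 ≠ 1 →
      ∃ b, H56.twist (commutator H) θ.1 b = θ.1 ∧ b ∉ B := by
    intro θ hθ
    by_contra hcon
    push Not at hcon
    obtain ⟨χ, -, hdvd⟩ := exists_over (commutator H) θ
    have h1 : B.index ∣ (H44.inertia (commutator H) θ.1).index := Subgroup.index_dvd_of_le fun b hb => hcon b hb
    have hn : NL χ := fun h => hθ (Nat.dvd_one.1 (h ▸ (dvd_mul_left _ _).trans hdvd))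
    have h2 := D.nd χ₀ χ hn₀ hn (hd₀ ▸ h1.trans ((dvd_mul_right _ _).trans hdvd))
    rw [hd₀] at h2
    have hpos : 0 < Cfsg.charDegree χ.1 := H43.irr_charDegree_pos χ
    have h3 := Nat.le_of_dvd hpos hdvd
    have h4 : B.index ≤ (H44.inertia (commutator H) θ.1).index :=
      Nat.le_of_dvd (Nat.pos_of_ne_zero Subgroup.index_ne_zero_of_finite) h1
    have h5 : 2 ≤ Cfsg.charDegree θ.1 := by
      have := H43.irr_charDegree_pos θ; omega
    nlinarith
  let W₀ : Set (Lin H) := {l | H43.irrTwist φ l = φ}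
  have hW1 : ∀ l l', H43.irrTwist φ l = H43.irrTwist φ l' → H43.irrTwist φ (l * l'⁻¹) = φ := by
    intro l l' h
    refine Subtype.ext (funext fun n => ?_)
    have h1 := congrFun (congrArg Subtype.val h) n
    rw [H43.irrTwist_apply, H43.irrTwist_apply] at h1
    rw [H43.irrTwist_apply, MonoidHom.mul_apply, MonoidHom.inv_apply, Units.val_mul,
      ← mul_assoc, h1, mul_assoc, Units.mul_inv, mul_one]
  have key : ∀ b ∉ B, H56.twist (commutator H) φ.1 b = φ.1 → ∀ l, H56.twist (commutator H) (H43.irrTwist φ l).1 b =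
      (H43.irrTwist φ l).1 → H43.irrTwist φ l = φ := by
    intro b hb hbφ l hl
    rw [twist_irrTwist, hbφ] at hl
    have hd : H43.irrTwist φ (cj b l * l⁻¹) = φ := hW1 _ _ (Subtype.ext (funext fun n => by
      rw [H43.irrTwist_apply]; exact congrFun hl n))
    -- `δ v = (b v) / v` is injective and preserves `W₀`
    have hinv : ∀ v ∈ W₀, cj b v * v⁻¹ ∈ W₀ := by
      intro v hv
      refine hW1 _ _ ?_
      refine Subtype.ext ?_
      have h1 : H56.twist (commutator H) (H43.irrTwist φ v).1 b = H56.twist (commutator H) φ.1 b := by rw [hv]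
      rw [twist_irrTwist, hbφ] at h1
      funext n
      rw [H43.irrTwist_apply, congrFun h1 n, show H43.irrTwist φ v = φ from hv]
    have hinj : ∀ v v' : Lin H, cj b v * v⁻¹ = cj b v' * v'⁻¹ → v = v' := by
      intro v v' h
      by_contra hne
      have hne' : v * v'⁻¹ ≠ 1 := fun e => hne (mul_inv_eq_one.1 e)
      apply hb
      rw [show B = stab (v * v'⁻¹) from stab_eq D hq hl₀ hne', mem_stab]
      refine MonoidHom.ext fun n => ?_
      have h1 : cj b v n * (v n)⁻¹ = cj b v' n * (v' n)⁻¹ := DFunLike.congr_fun h n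
      show cj b v n * (cj b v' n)⁻¹ = v n * (v' n)⁻¹
      rw [mul_inv_eq_iff_eq_mul] at h1 ⊢
      rw [h1]; ac_rfl
    haveI : Finite (Lin H) := Finite.of_injective (fun v : Lin H => chr v) chr_injective
    let δ : W₀ → W₀ := fun v => ⟨_, hinv v v.2⟩
    have hδ : Function.Injective δ := fun v v' h =>
      Subtype.ext (hinj _ _ (congrArg Subtype.val h))
    obtain ⟨v, hv⟩ := Finite.surjective_of_injective hδ ⟨_, hd⟩
    rw [hinj l v.1 (congrArg Subtype.val hv).symm]
    exact v.2
  -- every twist is trivial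
  have htw : ∀ l, H43.irrTwist φ l = φ := by
    intro l
    obtain ⟨b, hbφ, hb⟩ := hout φ hφ
    obtain ⟨b', hb'φ, hb'⟩ := hout (H43.irrTwist φ l) (by rw [H43.charDegree_irrTwist]; exact hφ)
    have hν : ∀ n, (H43.irrTwist φ (l * (cj b' l)⁻¹)).1 n = H56.twist (commutator H) φ.1 b' n := by
      intro n
      have h1 := congrFun hb'φ n
      rw [twist_irrTwist] at h1
      rw [H43.irrTwist_apply] at h1 ⊢
      rw [MonoidHom.mul_apply, MonoidHom.inv_apply, Units.val_mul, ← mul_assoc, ← h1, mul_assoc,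
        Units.mul_inv, mul_one]
    have hbν : H56.twist (commutator H) (H43.irrTwist φ (l * (cj b' l)⁻¹)).1 b =
        (H43.irrTwist φ (l * (cj b' l)⁻¹)).1 := by
      have hc : ⁅b', b⁆ ∈ (commutator H) :=
        Subgroup.commutator_mem_commutator (Subgroup.mem_top _) (Subgroup.mem_top _)
      have hcf : H56.twist (commutator H) φ.1 ⁅b', b⁆ = φ.1 :=
        H44.mem_inertia (commutator H) |>.1 (H44.le_inertia (commutator H) (H26.irr_isClassFunction φ) hc)
      rw [funext hν, H56.twist_twist,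
        show b' * b = ⁅b', b⁆ * (b * b') by rw [commutatorElement_def]; group,
        ← H56.twist_twist, hcf, ← H56.twist_twist, hbφ]
    have h2 := key b hb hbφ _ hbν
    have h3 : H56.twist (commutator H) φ.1 b' = φ.1 := funext fun n => by
      rw [← hν n, h2]
    exact key b' hb' h3 l hb'φ
  by_contra hne
  have hne1 : Abelianization.of m ≠ 1 := fun e => hm (mem_of_of_eq_one e)
  obtain ⟨β, hβ⟩ := CommGroup.exists_apply_ne_one_of_hasEnoughRootsOfUnity (Abelianization ↥(commutator H)) ℂ hne1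
  apply hβ
  have h1 := congrFun (congrArg Subtype.val (htw (β.comp Abelianization.of))) m
  rw [H43.irrTwist_apply] at h1
  exact Units.ext (mul_eq_left₀ hne |>.1 h1)

/-- The orbits on a section of the derived subgroup. -/
theorem index_dvd_card_sub_one (X : Subgroup (commutator H)) [X.Normal]
    (hXN : X ≤ commutator (commutator H))
    (hX : ∀ h : H, X ≤ X.comap (MulAut.conjNormal h : MulAut (commutator H)).toMonoidHom) :
    (fixMod D.σ).index ∣ Nat.card ((commutator (commutator H)).map (QuotientGroup.mk' X)) - 1 := by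
  classical
  haveI := Fintype.ofFinite H
  haveI : (X.map (commutator H).subtype).Normal := ⟨by
    rintro _ ⟨m, hm, rfl⟩ g
    exact ⟨_, hX g hm, rfl⟩⟩
  set E := (commutator (commutator H)).map (QuotientGroup.mk' X)
  let S := {v : commutator H ⧸ X // v ∈ E ∧ v ≠ 1}
  let c : H → (commutator H ⧸ X) →* (commutator H ⧸ X) := fun h =>
    QuotientGroup.map X X (MulAut.conjNormal h : MulAut (commutator H)).toMonoidHom (hX h)
  have hc1 : ∀ v, c 1 v = v := fun v => by
    obtain ⟨m, rfl⟩ := QuotientGroup.mk'_surjective X v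
    show (QuotientGroup.mk _ : commutator H ⧸ X) = QuotientGroup.mk m
    rw [map_one]; rfl
  have hcm : ∀ a b v, c (a * b) v = c a (c b v) := fun a b v => by
    obtain ⟨m, rfl⟩ := QuotientGroup.mk'_surjective X v
    show (QuotientGroup.mk _ : commutator H ⧸ X) = QuotientGroup.mk _
    rw [map_mul]; rfl
  have hcE : ∀ a, ∀ v ∈ E, c a v ∈ E := by
    rintro a _ ⟨m, hm, rfl⟩
    refine ⟨(MulAut.conjNormal a : MulAut (commutator H)) m, ?_, rfl⟩
    have hle : (commutator (commutator H)).map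
        (MulAut.conjNormal a : MulAut (commutator H)).toMonoidHom ≤ commutator (commutator H) :=
      map_commutator_le _
    exact hle (Subgroup.mem_map_of_mem _ hm)
  letI : MulAction H S :=
    { smul := fun h v => ⟨c h v.1, hcE h v.1 v.2.1, fun e => v.2.2 (by
        have h1 := congrArg (c h⁻¹) e
        rwa [← hcm, inv_mul_cancel, hc1, map_one] at h1)⟩
      one_smul := fun v => Subtype.ext (hc1 v.1)
      mul_smul := fun a b v => Subtype.ext (hcm a b v.1) }
  have hst : ∀ v : S, MulAction.stabilizer H v ≤ fixMod D.σ := by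
    rintro ⟨v, hvE, hv⟩ y hy
    by_contra hyJ
    obtain ⟨m, hm, rfl⟩ := hvE
    apply hv
    have h1 : c y (QuotientGroup.mk' X m) = QuotientGroup.mk' X m := congrArg Subtype.val hy
    have h2 : (MulAut.conjNormal y : MulAut (commutator H)) m * m⁻¹ ∈ X := by
      rw [← QuotientGroup.eq_one_iff]
      show QuotientGroup.mk' X (_ * m⁻¹) = 1
      rw [map_mul, map_inv]
      exact mul_inv_eq_one.2 h1
    obtain ⟨_, ⟨z, hz, rfl⟩, hzy⟩ := exists_comm_eq D hq hyJ (X.map (commutator H).subtype)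
      (Subgroup.map_subtype_le _) (Subgroup.mem_map_of_mem _ h2)
    have h3 : (z : H)⁻¹ * m = 1 := by
      refine fpf D hq hyJ ((commutator H).mul_mem ((commutator H).inv_mem z.2) m.2) ?_
      have h4 : y * (z : H) * y⁻¹ * (z : H)⁻¹ = y * (m : H) * y⁻¹ * (m : H)⁻¹ := hzy
      calc y * ((z : H)⁻¹ * m)
          = (z : H)⁻¹ * (y * (z : H) * y⁻¹ * (z : H)⁻¹)⁻¹ * (y * m * y⁻¹ * (m : H)⁻¹) * m * y := by
            group
        _ = (z : H)⁻¹ * m * y := by rw [h4]; group
    have h5 : z = m := Subtype.ext (inv_mul_eq_one.1 h3)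
    exact (QuotientGroup.eq_one_iff m).2 (h5 ▸ hz)
  have hcard : Nat.card S = Nat.card E - 1 := by
    rw [show Nat.card S = Nat.card {e : E // e ≠ 1} from Nat.card_congr
      { toFun := fun v => ⟨⟨v.1, v.2.1⟩, fun e => v.2.2 (congrArg Subtype.val e)⟩
        invFun := fun e => ⟨e.1.1, e.1.2, fun h => e.2 (Subtype.ext h)⟩
        left_inv := fun v => rfl
        right_inv := fun e => rfl }]
    haveI := Fintype.ofFinite E
    simp [Fintype.card_subtype_compl]
  rw [← hcard, Nat.card_congr (MulAction.selfEquivSigmaOrbitsQuotientStabilizer H S)]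
  haveI := Fintype.ofFinite (Quotient (MulAction.orbitRel H S))
  rw [Nat.card_sigma]
  exact Finset.dvd_sum fun ω _ => Subgroup.index_dvd_of_le (hst _)

/-- The derived subgroup is abelian. -/
theorem derived_comm : commutator (commutator H) = ⊥ := by
  classical
  haveI := Fintype.ofFinite H
  haveI := Fintype.ofFinite (commutator H)
  haveI := Fact.mk D.hr
  haveI := Fact.mk D.hq
  set M := commutator H
  by_contra hne
  -- nilpotency
  obtain ⟨y, hy, hyq⟩ : ∃ y, y ∉ fixMod D.σ ∧ y ^ D.q = 1 := by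
    obtain ⟨m₀, hm₀, a, ha, he⟩ := exists_decomp D hq (D.σ D.x * D.x⁻¹)
    have hat : Abelianization.of a = Abelianization.of (D.σ D.x * D.x⁻¹) := by
      rw [he, map_mul, of_eq_one_of_mem hm₀, one_mul]
    obtain ⟨n, hn⟩ := D.hxq
    have han : a ^ D.q ^ n = 1 := by
      refine A_inf D hq (mem_of_of_eq_one ?_) ((A D).pow_mem ha _)
      rw [map_pow, hat, map_mul, map_inv, mul_pow, inv_pow, ← map_pow, ← map_pow, hn, map_one,
        map_one, ← map_pow, hn, map_one, inv_one, mul_one]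
    have ha1 : a ≠ 1 := fun h => D.hx (mem_fixMod.2 (by
      rw [h, map_one, map_mul, map_inv, eq_comm] at hat
      exact mul_inv_eq_one.1 hat))
    obtain ⟨j, -, hj⟩ := (Nat.dvd_prime_pow D.hq).1 (orderOf_dvd_of_pow_eq_one han)
    have hj0 : j ≠ 0 := fun h => ha1 (by rw [h, pow_zero, orderOf_eq_one_iff] at hj; exact hj)
    obtain ⟨i, rfl⟩ := Nat.exists_eq_succ_of_ne_zero hj0
    refine ⟨a ^ D.q ^ i, fun hJ => ?_, by rw [← pow_mul, ← pow_succ, ← hj, pow_orderOf_eq_one]⟩
    set z := a ^ D.q ^ i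
    have hzt : Abelianization.of z =
        Abelianization.of (D.σ (D.x ^ D.q ^ i) * (D.x ^ D.q ^ i)⁻¹) := by
      simp only [z, map_pow, hat, map_mul, map_inv, mul_pow, inv_pow]
    have hzJ : D.σ (D.x ^ D.q ^ i) * (D.x ^ D.q ^ i)⁻¹ ∈ fixMod D.σ := by
      have hm : (D.σ (D.x ^ D.q ^ i) * (D.x ^ D.q ^ i)⁻¹) * z⁻¹ ∈ fixMod D.σ :=
        commutator_le_fixMod _ (mem_of_of_eq_one (by rw [map_mul, map_inv, ← hzt, mul_inv_cancel]))
      simpa using (fixMod D.σ).mul_mem hm hJ
    have h1 := pow_mem_fixMod D hzJ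
    rw [mem_fixMod] at h1
    simp only [map_pow] at h1
    have h2 : Abelianization.of z ^ D.r ^ D.k = 1 := by
      rw [hzt]
      simp only [map_mul, map_inv, map_pow, mul_pow, inv_pow]
      rw [h1, mul_inv_cancel]
    have h3 : z ^ D.r ^ D.k = 1 := A_inf D hq (mem_of_of_eq_one (by rw [map_pow, h2]))
      ((A D).pow_mem ((A D).pow_mem ha _) _)
    have h4 : orderOf z = D.q := by
      refine orderOf_eq_prime ?_ fun h => ?_
      · rw [← pow_mul, ← pow_succ, ← hj, pow_orderOf_eq_one]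
      · have := orderOf_dvd_of_pow_eq_one h
        rw [hj] at this
        exact absurd (Nat.le_of_dvd (pow_pos D.hq.pos _) this)
          (not_le.2 (Nat.pow_lt_pow_right D.hq.one_lt (Nat.lt_succ_self i)))
    have h5 : D.q ∣ D.r ^ D.k := h4 ▸ orderOf_dvd_of_pow_eq_one h3
    have hqr : D.q = D.r := (Nat.prime_dvd_prime_iff_eq D.hq D.hr).1 (D.hq.dvd_of_dvd_pow h5)
    obtain ⟨η, hη⟩ := H28.AbInd.exists_nonlinear (X := H) (fun hb => hne (by
      rw [eq_bot_iff]
      intro c _
      exact Subgroup.mem_bot.2 (Subtype.ext (Subgroup.mem_bot.1 (hb.le c.2)))))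
    have hn : NL η := by unfold NL; omega
    exact D.ndvdr η hn (hqr ▸ D.dvdq η hn)
  haveI hnil : Group.IsNilpotent M := by
    refine H21.isNilpotent_of_fpf_action (MulAut.conjNormal (H := M)) D.hq hyq fun m hm => ?_
    refine Subtype.ext (fpf D hq hy m.2 ?_)
    have h1 : y * (m : H) * y⁻¹ = m := by
      rw [← MulAut.conjNormal_apply, hm]
    exact mul_inv_eq_iff_eq_mul.1 h1
  set N := commutator M
  let X : Subgroup M := ⁅N, ⊤⁆
  haveI : X.Normal := Subgroup.commutator_normal _ _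
  have hXN : X ≤ N := Subgroup.commutator_le_left _ _
  have hXne : X ≠ N := by
    intro h
    have hall : ∀ j, N ≤ Subgroup.lowerCentralSeries (⊤ : Subgroup M) j := by
      intro j
      induction j with
      | zero => simp
      | succ j ih =>
        rw [← h, Subgroup.lowerCentralSeries_succ]
        exact Subgroup.commutator_mono ih le_rfl
    obtain ⟨n, hn⟩ := nilpotent_iff_lowerCentralSeries.1 hnil
    exact hne (le_bot_iff.1 (hn ▸ hall n))
  -- linear characters
  obtain ⟨l₀, hl₀⟩ : ∃ l : Lin H, l ≠ 1 := by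
    have hne' : N ≠ ⊤ := by
      intro h
      exact hXne (by show ⁅N, ⊤⁆ = N; rw [h]; exact h)
    obtain ⟨m, -, hm⟩ := SetLike.exists_of_lt (lt_top_iff_ne_top.2 hne')
    obtain ⟨β, hβ⟩ := CommGroup.exists_apply_ne_one_of_hasEnoughRootsOfUnity (Abelianization M) ℂ
      (show Abelianization.of m ≠ 1 from fun e => hm (mem_of_of_eq_one e))
    exact ⟨β.comp Abelianization.of, fun e => hβ (DFunLike.congr_fun e m)⟩
  have hclass : ∀ u : M, u ∉ N → ∀ c ∈ N, ∃ k : M, k * u * k⁻¹ = u * c := by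
    intro u hu c hc
    refine isConj_iff.1 (isConj_of_vanish hc fun χ hχ => ⟨vanish_below D hq hl₀ χ hχ hu,
      vanish_below D hq hl₀ χ hχ fun h => hu ?_⟩)
    simpa using N.mul_mem h (N.inv_mem hc)
  -- the central section `E`
  let π := QuotientGroup.mk' X
  let E := N.map π
  have hcent : ∀ e ∈ E, ∀ v, v * e = e * v := by
    rintro _ ⟨c, hc, rfl⟩ v
    obtain ⟨k, rfl⟩ := QuotientGroup.mk'_surjective X v
    symm
    rw [← commutatorElement_eq_one_iff_mul_comm, ← map_commutatorElement]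
    exact (QuotientGroup.eq_one_iff _).2 (Subgroup.commutator_mem_commutator hc (Subgroup.mem_top _))
  have hE1 : E ≠ ⊥ := fun h => hXne (le_antisymm hXN fun c hc => (QuotientGroup.eq_one_iff c).1
    (Subgroup.mem_bot.1 (h.le (Subgroup.mem_map_of_mem π hc))))
  have hmemE : ∀ k u : M, ⁅π k, π u⁆ ∈ E := fun k u => by
    rw [← map_commutatorElement]
    exact Subgroup.mem_map_of_mem π (Subgroup.commutator_mem_commutator (Subgroup.mem_top _)
      (Subgroup.mem_top _))
  have hsurj : ∀ u : M, u ∉ N → ∀ e ∈ E, ∃ k : M, ⁅π k, π u⁆ = e := by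
    rintro u hu _ ⟨c, hc, rfl⟩
    obtain ⟨k, hk⟩ := hclass u hu c hc
    refine ⟨k, ?_⟩
    rw [← map_commutatorElement, commutatorElement_def, hk, map_mul, map_mul,
      hcent (π c) (Subgroup.mem_map_of_mem π hc) (π u), map_inv, mul_inv_cancel_right]
  -- the prime of `E`
  obtain ⟨s, hs, hsd⟩ := Nat.exists_prime_and_dvd (n := Nat.card E)
    (fun h => hE1 (Subgroup.eq_bot_of_card_eq _ h))
  haveI := Fact.mk hs
  have hexp : ∀ (t : ℕ), t.Prime → t ∣ Nat.card E → ∀ u : M, u ^ t ∈ N := by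
    intro t ht htd u
    by_contra hu
    haveI := Fact.mk ht
    have hu0 : u ∉ N := fun h => hu (N.pow_mem h t)
    have hpow : ∀ (k : M) (j : ℕ), ⁅π k, π u ^ j⁆ = ⁅π k, π u⁆ ^ j := by
      intro k j
      induction j with
      | zero => simp
      | succ j ih =>
        rw [pow_succ', pow_succ', ← ih]
        have hmem : ⁅π k, π u ^ j⁆ ∈ E := by rw [← map_pow]; exact hmemE k (u ^ j)
        have e : ⁅π k, π u * π u ^ j⁆ = ⁅π k, π u⁆ * (π u * ⁅π k, π u ^ j⁆ * (π u)⁻¹) := by
          simp only [commutatorElement_def]; group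
        rw [e, hcent _ hmem (π u), mul_inv_cancel_right]
    obtain ⟨e, he⟩ := exists_prime_orderOf_dvd_card' (G := E) t htd
    have hsurjpow : Function.Surjective fun v : E => v ^ t := by
      rintro ⟨v, hv⟩
      obtain ⟨k, hk⟩ := hsurj (u ^ t) hu v hv
      refine ⟨⟨⁅π k, π u⁆, hmemE k u⟩, Subtype.ext ?_⟩
      show ⁅π k, π u⁆ ^ t = v
      rw [← hpow, ← map_pow, hk]
    have hz : e = 1 := (Finite.injective_iff_surjective.2 hsurjpow) (by
      show e ^ t = (1 : E) ^ t
      rw [← he, pow_orderOf_eq_one, one_pow])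
    rw [hz, orderOf_one] at he
    exact ht.ne_one he.symm
  have hVp : IsPGroup s (M ⧸ N) := fun v => by
    obtain ⟨u, rfl⟩ := QuotientGroup.mk'_surjective N v
    exact ⟨1, by rw [pow_one, ← map_pow]; exact (QuotientGroup.eq_one_iff _).2 (hexp s hs hsd u)⟩
  have hNtop : N ≠ ⊤ := by
    intro h
    exact hXne (by show ⁅N, ⊤⁆ = N; rw [h]; exact h)
  obtain ⟨u₀, -, hu₀⟩ := SetLike.exists_of_lt (lt_top_iff_ne_top.2 hNtop)
  have hEs : ∃ d, Nat.card E = s ^ d := by
    refine ⟨_, Nat.eq_prime_pow_of_unique_prime_dvd Nat.card_pos.ne' fun {t} ht htd => ?_⟩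
    have h1 : orderOf (QuotientGroup.mk' N u₀) ∣ s := orderOf_dvd_of_pow_eq_one (by
      rw [← map_pow]; exact (QuotientGroup.eq_one_iff _).2 (hexp s hs hsd u₀))
    have h2 : orderOf (QuotientGroup.mk' N u₀) ∣ t := orderOf_dvd_of_pow_eq_one (by
      rw [← map_pow]; exact (QuotientGroup.eq_one_iff _).2 (hexp t ht htd u₀))
    have h3 : orderOf (QuotientGroup.mk' N u₀) ≠ 1 := fun h => hu₀
      ((QuotientGroup.eq_one_iff _).1 (orderOf_eq_one_iff.1 h))
    rw [((Nat.dvd_prime hs).1 h1).resolve_left h3] at h2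
    exact ((Nat.prime_dvd_prime_iff_eq hs ht).1 h2).symm
  obtain ⟨d, hd⟩ := hEs
  obtain ⟨v, hv⟩ := IsPGroup.iff_card.1 hVp
  -- `E` is smaller than the abelianisation
  have hlt : Nat.card E < Nat.card (M ⧸ N) := by
    let f : M ⧸ N → E := fun w => ⟨⁅π w.out, π u₀⁆, hmemE _ _⟩
    have hfs : Function.Surjective f := by
      rintro ⟨e, he⟩
      obtain ⟨k, hk⟩ := hsurj u₀ hu₀ e he
      refine ⟨QuotientGroup.mk k, Subtype.ext ?_⟩
      show ⁅π (QuotientGroup.mk k : M ⧸ N).out, π u₀⁆ = e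
      obtain ⟨c, hc⟩ : ∃ c : N, (QuotientGroup.mk k : M ⧸ N).out = k * c :=
        ⟨⟨k⁻¹ * (QuotientGroup.mk k : M ⧸ N).out,
          QuotientGroup.eq.1 (QuotientGroup.out_eq' _).symm⟩, by simp⟩
      have hcE := hcent _ (Subgroup.mem_map_of_mem π c.2)
      rw [hc, map_mul, ← hk]
      simp only [commutatorElement_def, mul_inv_rev]
      calc π k * π c * π u₀ * ((π c)⁻¹ * (π k)⁻¹) * (π u₀)⁻¹
          = π k * (π c * π u₀) * (π c)⁻¹ * (π k)⁻¹ * (π u₀)⁻¹ := by group
        _ = π k * π u₀ * (π k)⁻¹ * (π u₀)⁻¹ := by rw [← hcE (π u₀)]; group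
    have hone : ∀ w : M ⧸ N, w = 1 ∨ w = QuotientGroup.mk u₀ → f w = 1 := by
      intro w hw
      refine Subtype.ext ?_
      show ⁅π w.out, π u₀⁆ = 1
      rw [commutatorElement_eq_one_iff_mul_comm]
      rcases hw with rfl | rfl
      · have h1 : π (1 : M ⧸ N).out ∈ E := Subgroup.mem_map_of_mem π
          ((QuotientGroup.eq_one_iff _).1 (QuotientGroup.out_eq' _))
        exact (hcent _ h1 _).symm
      · obtain ⟨c, hc⟩ : ∃ c : N, (QuotientGroup.mk u₀ : M ⧸ N).out = u₀ * c :=
          ⟨⟨u₀⁻¹ * (QuotientGroup.mk u₀ : M ⧸ N).out,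
            QuotientGroup.eq.1 (QuotientGroup.out_eq' _).symm⟩, by simp⟩
        rw [hc, map_mul, mul_assoc, ← hcent _ (Subgroup.mem_map_of_mem π c.2) (π u₀)]
    refine lt_of_le_of_ne (Nat.card_le_card_of_surjective f hfs) fun heq => ?_
    have hb : Function.Bijective f := (Nat.bijective_iff_surjective_and_card f).2 ⟨hfs, heq.symm⟩
    have h1 := hb.1 ((hone 1 (Or.inl rfl)).trans (hone _ (Or.inr rfl)).symm)
    exact hu₀ ((QuotientGroup.eq_one_iff _).1 h1.symm)
  -- `fixMod` has index dividing `|E| - 1`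
  have hdiv : (fixMod D.σ).index ∣ Nat.card E - 1 :=
    index_dvd_card_sub_one D hq X hXN fun h => by
      rw [← Subgroup.map_le_iff_le_comap]
      show (⁅commutator M, ⊤⁆ : Subgroup M).map _ ≤ ⁅commutator M, ⊤⁆
      rw [Subgroup.map_commutator]
      exact Subgroup.commutator_mono (map_commutator_le _) le_top
  have hW : Nat.card (Lin H) = Nat.card (M ⧸ N) := by
    refine (Nat.card_congr (Abelianization.lift (G := M) (A := ℂˣ))).trans ?_
    exact CommGroup.card_monoidHom_of_hasEnoughRootsOfUnity (Abelianization M) ℂ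
  have hcl := card_lin D hq
  have hsq := card_fixed_sq D hq
  rw [hW, hv] at hcl hsq
  rw [hd] at hdiv
  have hdv : d < v := (Nat.pow_lt_pow_iff_right hs.one_lt).1 (hd ▸ hv ▸ hlt)
  have hd0 : 0 < d := Nat.pos_of_ne_zero fun h => hE1 (Subgroup.eq_bot_of_card_eq _ (by rw [hd, h, pow_zero]))
  set g := Nat.gcd v d
  have hg : (fixMod D.σ).index ∣ s ^ g - 1 := by
    rw [← Nat.pow_sub_one_gcd_pow_sub_one]
    exact Nat.dvd_gcd (Dvd.intro _ hcl.symm) hdiv
  have hg0 : 0 < g := Nat.gcd_pos_of_pos_right _ hd0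
  have hgv : 2 * g ≤ v := by
    obtain ⟨c, hc⟩ : g ∣ v := Nat.gcd_dvd_left v d
    have : g ≤ d := Nat.le_of_dvd hd0 (Nat.gcd_dvd_right v d)
    rcases c with _ | _ | c
    · omega
    · omega
    · rw [hc]; nlinarith
  have hP : (s ^ g) ^ 2 ≤ s ^ v := by rw [← pow_mul]; exact Nat.pow_le_pow_right hs.pos (by omega)
  have hP2 : 2 ≤ s ^ g := hs.two_le.trans (Nat.le_self_pow hg0.ne' s)
  have hn := Nat.le_of_dvd (by omega) hg
  set Φ := Nat.card (fixedLin D)
  have hΦ : 1 ≤ Φ := Nat.card_pos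
  have h1 : (fixMod D.σ).index * (Φ - 1) ≤ (s ^ g - 1) * (Φ - 1) := Nat.mul_le_mul_right _ hn
  rw [← hcl] at h1
  obtain ⟨φ', hφ'⟩ : ∃ t, Φ = t + 1 := ⟨Φ - 1, by omega⟩
  obtain ⟨P', hP'⟩ : ∃ t, s ^ g = t + 1 := ⟨s ^ g - 1, by omega⟩
  rw [hP', hφ'] at h1
  rw [hφ'] at hsq
  rw [hP'] at hP hP2
  simp only [Nat.add_sub_cancel] at h1
  obtain ⟨V', hV'⟩ : ∃ t, s ^ v = t + 1 := ⟨s ^ v - 1, by have := pow_pos hs.pos v; omega⟩
  rw [hV'] at h1 hsq hP
  simp only [Nat.add_sub_cancel] at h1
  nlinarith [sq_nonneg ((φ' : ℤ) - (P' : ℤ))]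

end Cfsg.Agent.H69.NonDiv
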