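import Cfsg.Agent.H69.NonDiv.Core
import Cfsg.Agent.H43.CoprimeExt
import Cfsg.Agent.S4456
import Cfsg.Agent.S0169

/-!
# All non-linear degrees agree
-/

set_option autoImplicit false
set_option linter.style.haveILetI false
set_option linter.unusedSectionVars false

open scoped commutatorElement

namespace Cfsg.Agent.H69.NonDiv

variable {H : Type*} [Group H] [Finite H]

/-- The restriction to any subgroup has a constituent. -/
theorem exists_constituent {G : Type*} [Group G] [Fintype G] (U : Subgroup G) [Fintype U]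
    (χ : Cfsg.IrrCharacter G) :
    ∃ θ : Cfsg.IrrCharacter U, Cfsg.classInner (fun u : U => χ.1 u) θ.1 ≠ 0 := by
  by_contra h
  push Not at h
  have hc : Cfsg.IsCharacter U fun u : U => χ.1 u :=
    H26.isCharacter_comp (H26.irr_isCharacter χ) U.subtype
  have h0 : ∀ θ, H43.mult (fun u : U => χ.1 u) θ = 0 := fun θ =>
    H43.mult_eq_of_classInner (by rw [Nat.cast_zero]; exact h θ)
  have h1 := H43.apply_one_eq_sum_mult hc
  simp only [h0, Nat.cast_zero, zero_mul, Finset.sum_const_zero, Subgroup.coe_one] at h1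
  exact H26.irr_one_ne_zero χ h1

theorem eq_of_abelian_derived (D : Data H) (hq : ¬ D.q ∣ Nat.card (commutator H))
    (χ χ' : Cfsg.IrrCharacter H) (hχ : NL χ) (hχ' : NL χ') :
    Cfsg.charDegree χ.1 = Cfsg.charDegree χ'.1 := by
  classical
  haveI := Fintype.ofFinite H
  haveI := Fintype.ofFinite (commutator H)
  set M := commutator H with hM
  have hab := derived_comm D hq
  have hlin : ∀ ψ : Cfsg.IrrCharacter H, NL ψ → ∃ l : Lin H, l ≠ 1 ∧
      Cfsg.charDegree ψ.1 = (stab l).index := by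
    intro ψ hψ
    obtain ⟨φ, hφ⟩ := H43.exists_restrMult_ne_zero M ψ
    have hφ1 : Cfsg.charDegree φ.1 = 1 := H27.Deg.charDegree_eq_one_of_commutator_le (by
      rw [hab]; exact bot_le)
    obtain ⟨f, hf⟩ := H27.Deg.exists_hom hφ1
    have hφf : φ = chr f := Subtype.ext (funext fun m => (hf m).symm)
    rw [hφf] at hφ
    have hf1 : f ≠ 1 := by
      intro h
      refine hψ (H27.Deg.charDegree_eq_one_of_commutator_le ?_)
      refine H43.le_charKer_of_one ψ M ?_
      rw [show H26.oneIrr M = chr f from Subtype.ext (funext fun m => by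
        rw [H26.oneIrr_val, h]; rfl)]
      exact hφ
    have hne : Cfsg.classInner (fun n : M => ψ.1 n) (chr f).1 ≠ 0 := by
      rw [H43.classInner_eq_mult (H43.isCharacter_restr M ψ) (chr f)]
      exact Nat.cast_ne_zero.2 hφ
    have hdvd := H44.degree_mul_index_inertia_dvd M ψ (chr f) hne
    rw [inertia_chr, charDegree_chr, mul_one] at hdvd
    obtain ⟨χ₀, hn, hd⟩ := exists_char_index D hq hf1
    refine ⟨f, hf1, ?_⟩
    rw [← hd] at hdvd ⊢
    exact (D.nd χ₀ ψ hn hψ hdvd).symm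
  obtain ⟨l, hl, h⟩ := hlin χ hχ
  obtain ⟨l', hl', h'⟩ := hlin χ' hχ'
  rw [h, h', stab_eq D hq hl hl']

/-- A non-abelian quotient of prime power order with coprime kernel forces an abelian kernel. -/
theorem comm_of_nonabelian_quotient (D : Data H) (R : Subgroup H) [R.Normal]
    (hRc : (Nat.card R).Coprime D.q) (k : ℕ) (hk : R.index = D.q ^ k)
    (hRH : ¬ commutator H ≤ R) : ∀ θ : Cfsg.IrrCharacter R, Cfsg.charDegree θ.1 = 1 := by
  classical
  haveI := Fintype.ofFinite H
  haveI := Fintype.ofFinite R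
  haveI := Fintype.ofFinite (H ⧸ R)
  intro θ
  by_contra hθ
  obtain ⟨η, hη⟩ := H28.AbInd.exists_nonlinear (X := H ⧸ R) (fun hb => hRH (by
    intro c hc
    have h1 := Subgroup.mem_map_of_mem (QuotientGroup.mk' R) hc
    have h2 : (commutator H).map (QuotientGroup.mk' R) ≤ commutator (H ⧸ R) := by
      rw [commutator_def, Subgroup.map_commutator]
      exact Subgroup.commutator_mono le_top le_top
    exact (QuotientGroup.eq_one_iff c).1 (Subgroup.mem_bot.1 (hb ▸ h2 h1))))
  set T := H44.inertia R θ.1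
  have hRT : R ≤ T := H44.le_inertia R (H26.irr_isClassFunction θ)
  haveI := Fintype.ofFinite T
  haveI := Fintype.ofFinite (R.subgroupOf T)
  let RT := R.subgroupOf T
  let θT : Cfsg.IrrCharacter RT := ⟨H56.resT R T θ.1, H56.isIrrCharacter_resT R T θ.2 hRT⟩
  have hI : ∀ g : H, g ∈ T ↔ H56.twist R θ.1 g = θ.1 := fun g => H44.mem_inertia R
  have hinv : ∀ t : T, H43.irrConj RT t θT = θT := fun t =>
    Subtype.ext (H56.resT_invariant R T hI t)
  have hθTd : Cfsg.charDegree θT.1 = Cfsg.charDegree θ.1 := rfl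
  have hRTc : Nat.card RT = Nat.card R := Nat.card_congr (Subgroup.subgroupOfEquivOfLe hRT).toEquiv
  have hidx : RT.index ∣ D.q ^ k := by
    rw [← hk, ← Subgroup.relIndex_mul_index hRT]
    exact dvd_mul_right _ _
  have hcop : Nat.Coprime RT.index (Cfsg.detOrder θT.1 * Cfsg.charDegree θT.1) := by
    have h1 : Nat.Coprime RT.index (Nat.card RT) := by
      rw [hRTc]
      exact Nat.Coprime.coprime_dvd_left hidx (Nat.Coprime.pow_left _ hRc.symm)
    exact Nat.Coprime.mul_right
      (h1.coprime_dvd_right (H43.detOrder_dvd_card (H26.irr_isCharacter θT)))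
      (h1.coprime_dvd_right (H43.irr_charDegree_dvd θT))
  obtain ⟨X, hX, -⟩ := H43.exists_coprime_ext θT hinv hcop
  -- a constituent of the quotient character on the image of the inertia group
  let Tb := T.map (QuotientGroup.mk' R)
  haveI := Fintype.ofFinite Tb
  haveI := Fintype.ofFinite (T ⧸ RT)
  obtain ⟨η', hη'⟩ := exists_constituent Tb η
  let π : T ⧸ RT →* Tb := QuotientGroup.lift RT
    (((QuotientGroup.mk' R).comp T.subtype).codRestrict Tb fun t =>
      Subgroup.mem_map_of_mem _ t.2)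
    (fun t ht => by
      rw [MonoidHom.mem_ker]
      exact Subtype.ext ((QuotientGroup.eq_one_iff _).2 (Subgroup.mem_subgroupOf.1 ht)))
  have hπ : Function.Surjective π := by
    rintro ⟨_, t, ht, rfl⟩
    exact ⟨QuotientGroup.mk ⟨t, ht⟩, rfl⟩
  let η'' : Cfsg.IrrCharacter (T ⧸ RT) := ⟨fun v => η'.1 (π v), by
    obtain ⟨n, ρ, hρ, e⟩ := η'.2
    refine ⟨n, ρ.comp π, ?_, ?_⟩
    · haveI := hρ
      exact H43.isIrreducible_comp_surjective ρ π hπ
    · funext v
      show ρ.character _ = _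
      rw [e]⟩
  have hXirr : Cfsg.IsIrrCharacter RT fun n : RT => X.1 n := by
    rw [funext hX]; exact θT.2
  let Ξ : Cfsg.IrrCharacter T := ⟨_, H45.isIrrCharacter_extMul RT X hXirr η''⟩
  have hΞd : Ξ.1 1 = (Cfsg.charDegree θ.1 : ℂ) * (Cfsg.charDegree η'.1 : ℂ) := by
    show X.1 1 * η'.1 (π (QuotientGroup.mk 1)) = _
    rw [QuotientGroup.mk_one, map_one, H43.irr_charDegree_spec η', ← hθTd,
      ← H43.irr_charDegree_spec θT, ← hX 1]
    rfl
  have hc : Cfsg.classInner (fun n : RT => Ξ.1 n) (H56.resT R T θ.1) ≠ 0 := by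
    have e : (fun n : RT => Ξ.1 n) = (Cfsg.charDegree η'.1 : ℂ) • θT.1 := by
      funext n
      show X.1 n * η'.1 (π (QuotientGroup.mk (n : T))) = _
      rw [(QuotientGroup.eq_one_iff (n : T)).2 n.2, map_one, H43.irr_charDegree_spec η', hX n]
      exact mul_comm _ _
    rw [e, H26.classInner_smul_left, show H56.resT R T θ.1 = θT.1 from rfl,
      H57.irr_inner_self θT.2, mul_one]
    exact Nat.cast_ne_zero.2 (H43.irr_charDegree_pos η').ne'
  obtain ⟨h1, -⟩ := H56.clifford_induced R T θ.2 hI Ξ.2 hc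
  let Ψ : Cfsg.IrrCharacter H := ⟨_, h1⟩
  have hΨd : Cfsg.charDegree Ψ.1 = T.index * Cfsg.charDegree η'.1 * Cfsg.charDegree θ.1 := by
    rw [Cfsg.charDegree, show Ψ.1 = Cfsg.indFun T Ξ.1 from rfl, H25.indFun_one, hΞd,
      ← Nat.cast_mul, ← Nat.cast_mul, Complex.natCast_re, Nat.floor_natCast]
    ring
  -- compare with the quotient character
  have hTb : Tb.index = T.index := Subgroup.index_map_eq _ (QuotientGroup.mk'_surjective R)
    (by rw [QuotientGroup.ker_mk']; exact hRT)
  have hle : Cfsg.charDegree η.1 ≤ T.index * Cfsg.charDegree η'.1 := by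
    have hind : Cfsg.IsCharacter (H ⧸ R) (Cfsg.indFun Tb η'.1) :=
      H25.isCharacter_indFun Tb (H26.irr_isCharacter η')
    have hne : Cfsg.classInner (Cfsg.indFun Tb η'.1) η.1 ≠ 0 := by
      rw [H25.classInner_indFun_left Tb η'.1 η.1 (H26.irr_isClassFunction η),
        ← H25.conj_classInner]
      simpa using hη'
    have h2 := H56.re_one_le_of_constituent hind η.2 hne
    rw [H25.indFun_one, H43.irr_charDegree_spec, H43.irr_charDegree_spec, ← Nat.cast_mul,
      Complex.natCast_re, Complex.natCast_re, Nat.cast_le, hTb] at h2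
    exact h2
  have hqpow : ∀ d, d ∣ D.q ^ k → ∃ j, d = D.q ^ j := fun d hd => by
    obtain ⟨j, -, hj⟩ := (Nat.dvd_prime_pow D.hq).1 hd
    exact ⟨j, hj⟩
  obtain ⟨j₁, hj₁⟩ := hqpow (Cfsg.charDegree η.1) (by
    rw [← hk, Subgroup.index_eq_card]; exact H43.irr_charDegree_dvd η)
  obtain ⟨j₂, hj₂⟩ := hqpow T.index (by rw [← hk]; exact Subgroup.index_dvd_of_le hRT)
  obtain ⟨j₃, hj₃⟩ := hqpow (Cfsg.charDegree η'.1) ((H43.irr_charDegree_dvd η').trans (by
    rw [← hk, Subgroup.index_eq_card]; exact Subgroup.card_subgroup_dvd_card Tb))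
  have hdvd : Cfsg.charDegree η.1 ∣ T.index * Cfsg.charDegree η'.1 := by
    rw [hj₁, hj₂, hj₃, ← pow_add] at hle ⊢
    exact pow_dvd_pow _ ((Nat.pow_le_pow_iff_right D.hq.one_lt).1 hle)
  have hn1 : NL (H27.Deg.infl R η) := by
    unfold NL; rw [H27.Deg.charDegree_infl]; omega
  have hθ2 : 2 ≤ Cfsg.charDegree θ.1 := by
    have := H43.irr_charDegree_pos θ; omega
  have hpos : 0 < T.index * Cfsg.charDegree η'.1 :=
    Nat.mul_pos (Nat.pos_of_ne_zero Subgroup.index_ne_zero_of_finite) (H43.irr_charDegree_pos η')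
  have hn2 : NL Ψ := by
    unfold NL; rw [hΨd]
    intro h
    have h' := Nat.eq_one_of_mul_eq_one_left h
    omega
  have h3 := D.nd _ _ hn1 hn2 (by
    rw [H27.Deg.charDegree_infl, hΨd]
    exact hdvd.trans (dvd_mul_right _ _))
  rw [H27.Deg.charDegree_infl, hΨd] at h3
  nlinarith

/-- All non-linear degrees are equal. -/
theorem degree_eq (D : Data H) (χ χ' : Cfsg.IrrCharacter H) (hχ : NL χ) (hχ' : NL χ') :
    Cfsg.charDegree χ.1 = Cfsg.charDegree χ'.1 := by
  classical
  haveI := Fact.mk D.hq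
  obtain ⟨R, hRn, hRc, k, hk⟩ := S4456.result D.q D.hq fun ψ hψ => D.dvdq ψ hψ
  haveI := hRn
  by_cases hRH : commutator H ≤ R
  · refine eq_of_abelian_derived D ?_ χ χ' hχ hχ'
    intro h
    exact D.hq.coprime_iff_not_dvd.1 hRc.symm (h.trans (Subgroup.card_dvd_of_le hRH))
  · have hlin := comm_of_nonabelian_quotient D R hRc k hk hRH
    have hab : ∀ a ∈ R, ∀ b ∈ R, a * b = b * a := fun a ha b hb =>
      congrArg Subtype.val (H26.comm_iff_forall_irr_one.2 (fun θ => by
        rw [H43.irr_charDegree_spec, hlin θ, Nat.cast_one]) ⟨a, ha⟩ ⟨b, hb⟩)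
    have hpw : ∀ ψ : Cfsg.IrrCharacter H, ∃ j, Cfsg.charDegree ψ.1 = D.q ^ j := by
      intro ψ
      obtain ⟨d, ρ, hρ, e⟩ := ψ.2
      haveI := hρ
      have hd : Cfsg.charDegree ψ.1 = d := by simp [Cfsg.charDegree, ← e]
      have h1 := S0169.result ρ R hab
      rw [Module.finrank_fin_fun, hk, Nat.dvd_prime_pow D.hq] at h1
      obtain ⟨j, -, hj⟩ := h1
      exact ⟨j, hd.trans hj⟩
    obtain ⟨i, hi⟩ := hpw χ
    obtain ⟨j, hj⟩ := hpw χ'
    rcases le_total i j with h | h
    · exact D.nd χ χ' hχ hχ' (by rw [hi, hj]; exact pow_dvd_pow _ h)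
    · exact (D.nd χ' χ hχ' hχ (by rw [hi, hj]; exact pow_dvd_pow _ h)).symm

end Cfsg.Agent.H69.NonDiv
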