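import Cfsg.Agent.H69.NonDiv.Main
import Cfsg.Agent.H27.JustNonabelian
import Cfsg.Agent.H45.Gallagher

/-!
# Disconnected degree graph without divisibility
-/

set_option autoImplicit false
set_option linter.style.haveILetI false
set_option linter.unusedSectionVars false

open scoped commutatorElement

namespace Cfsg.Agent.H69.NonDiv

variable {G : Type*} [Group G] [Finite G]

/-- Degrees are positive. -/
theorem mem_cd (χ : Cfsg.IrrCharacter G) : Cfsg.charDegree χ.1 ∈ Cfsg.charDegrees G := ⟨χ, rfl⟩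

/-- No hub in a graph with two components. -/
theorem no_hub
    (htwo : Nat.card ((Cfsg.degreeGraph G).induce (Cfsg.degreePrimes G)).ConnectedComponent = 2)
    (c : ℕ) (hc : c ∈ Cfsg.degreePrimes G)
    (h : ∀ (t : ℕ) (ht : t ∈ Cfsg.degreePrimes G),
      ((Cfsg.degreeGraph G).induce (Cfsg.degreePrimes G)).Reachable ⟨t, ht⟩ ⟨c, hc⟩) : False := by
  set Γ := (Cfsg.degreeGraph G).induce (Cfsg.degreePrimes G)
  haveI : Subsingleton Γ.ConnectedComponent :=
    SimpleGraph.Preconnected.subsingleton_connectedComponent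
      fun u v => (h u.1 u.2).trans (h v.1 v.2).symm
  have := Finite.card_le_one_iff_subsingleton.2 ‹Subsingleton Γ.ConnectedComponent›
  omega

/-- Two primes dividing a common degree are reachable from each other. -/
theorem reach {t s d : ℕ} (ht : t ∈ Cfsg.degreePrimes G) (hs : s ∈ Cfsg.degreePrimes G)
    (hd : d ∈ Cfsg.charDegrees G) (htd : t ∣ d) (hsd : s ∣ d) :
    ((Cfsg.degreeGraph G).induce (Cfsg.degreePrimes G)).Reachable ⟨t, ht⟩ ⟨s, hs⟩ := by
  by_cases h : t = s
  · subst h; exact SimpleGraph.Reachable.refl _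
  · exact SimpleGraph.Adj.reachable ⟨h, ht.1, hs.1, d, hd,
      Nat.Coprime.mul_dvd_of_dvd_of_dvd ((Nat.coprime_primes ht.1 hs.1).2 h) htd hsd⟩

theorem card_eq_three [Group.IsSolvable G]
    (hnd : ∀ a ∈ Cfsg.charDegrees G, ∀ b ∈ Cfsg.charDegrees G, 1 < a → a < b → ¬ a ∣ b)
    (htwo : Nat.card ((Cfsg.degreeGraph G).induce (Cfsg.degreePrimes G)).ConnectedComponent = 2) :
    Nat.card ↥(Cfsg.charDegrees G) = 3 := by
  classical
  haveI := Fintype.ofFinite G
  have hnd' : ∀ a ∈ Cfsg.charDegrees G, ∀ b ∈ Cfsg.charDegrees G, 1 < a → 0 < b → a ∣ b → a = b :=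
    fun a ha b hb h1 hb0 hab => ((Nat.le_of_dvd hb0 hab).lt_or_eq).resolve_left
      fun hlt => hnd a ha b hb h1 hlt hab
  -- the group is not abelian
  have hne : ¬ commutator G ≤ (⊥ : Subgroup G) := by
    intro hab
    have hV : Cfsg.degreePrimes G = ∅ := by
      ext t
      refine ⟨fun ⟨ht, d, ⟨χ, hχ⟩, htd⟩ => ?_, fun h => h.elim⟩
      rw [← hχ, H27.Deg.charDegree_eq_one_of_commutator_le (hab.trans bot_le)] at htd
      exact absurd (Nat.dvd_one.1 htd) ht.ne_one
    haveI : IsEmpty (Cfsg.degreePrimes G) := by rw [hV]; infer_instance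
    haveI : IsEmpty ((Cfsg.degreeGraph G).induce (Cfsg.degreePrimes G)).ConnectedComponent :=
      ⟨fun c => c.exists_rep.elim fun v _ => isEmptyElim v⟩
    rw [Nat.card_of_isEmpty] at htwo
    omega
  obtain ⟨K, hK, hKmax⟩ := Set.Finite.exists_maximal
    (s := {X : Subgroup G | X.Normal ∧ ¬ commutator G ≤ X}) (Set.toFinite _)
    ⟨⊥, inferInstance, hne⟩
  obtain ⟨hKn, hKc⟩ := hK
  haveI := hKn
  haveI := Fintype.ofFinite (G ⧸ K)
  haveI := Fintype.ofFinite K
  set π := QuotientGroup.mk' K with hπ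
  have hcm : commutator (G ⧸ K) = (commutator G).map π := by
    rw [commutator_def, commutator_def, Subgroup.map_commutator,
      Subgroup.map_top_of_surjective _ (QuotientGroup.mk'_surjective K)]
  have hQ : commutator (G ⧸ K) ≠ ⊥ := by
    rw [hcm]
    intro h
    exact hKc fun c hc => (QuotientGroup.eq_one_iff c).1
      (Subgroup.mem_bot.1 (h.le (Subgroup.mem_map_of_mem π hc)))
  have hjn : ∀ X : Subgroup (G ⧸ K), X.Normal → X ≠ ⊥ → commutator (G ⧸ K) ≤ X := by
    intro X hX hXb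
    haveI := hX
    by_contra hc
    have hY : ¬ commutator G ≤ X.comap π := fun h => hc (by
      rw [hcm]; exact Subgroup.map_le_iff_le_comap.2 h)
    have hKX : K ≤ X.comap π := fun a ha => by
      rw [Subgroup.mem_comap, show π a = 1 from (QuotientGroup.eq_one_iff a).2 ha]
      exact X.one_mem
    refine hXb (eq_bot_iff.2 fun v hv => ?_)
    obtain ⟨a, rfl⟩ := QuotientGroup.mk'_surjective K v
    exact Subgroup.mem_bot.2 ((QuotientGroup.eq_one_iff a).2
      (hKmax ⟨Subgroup.Normal.comap hX π, hY⟩ hKX hv))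
  have hab : ∀ a ∈ commutator (G ⧸ K), ∀ b ∈ commutator (G ⧸ K), a * b = b * a := by
    haveI : Group.IsSolvable (G ⧸ K) := inferInstance
    intro a ha b hb
    by_contra hcne
    have h2 : derivedSeries (G ⧸ K) 2 ≠ ⊥ := fun h => hcne (by
      rw [← commutatorElement_eq_one_iff_mul_comm, ← Subgroup.mem_bot, ← h, derivedSeries_succ,
        derivedSeries_one]
      exact Subgroup.commutator_mem_commutator ha hb)
    have hle := hjn _ (derivedSeries_normal _ 2) h2
    have hst : ∀ n, derivedSeries (G ⧸ K) 1 ≤ derivedSeries (G ⧸ K) (n + 1) := by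
      intro n
      induction n with
      | zero => exact le_rfl
      | succ n ih =>
        refine le_trans ?_ (Subgroup.commutator_mono ih ih)
        rw [derivedSeries_one]
        refine hle.trans ?_
        rw [derivedSeries_succ, derivedSeries_one]
    obtain ⟨n, hn⟩ := (Group.isSolvable_def (G ⧸ K)).1 inferInstance
    refine hQ (eq_bot_iff.2 ?_)
    rw [← derivedSeries_one, ← hn]
    exact (hst n).trans (derivedSeries_antitone _ (Nat.le_succ n))
  obtain ⟨q, hq, hVq, hcase⟩ := H27.just_nonabelian hQ hab hjn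
  haveI := Fact.mk hq
  rcases hcase with hP | ⟨hcomm, hqf, -, hVtop⟩
  · -- a prime power quotient
    exfalso
    obtain ⟨η, hη⟩ := H28.AbInd.exists_nonlinear hQ
    obtain ⟨e, he⟩ := IsPGroup.iff_card.1 hP
    have hall : ∀ χ : Cfsg.IrrCharacter G, Cfsg.charDegree χ.1 ≠ 1 → q ∣ Cfsg.charDegree χ.1 := by
      intro χ hχ
      by_contra hqd
      obtain ⟨θ, hθ⟩ := exists_constituent K χ
      obtain ⟨h1, h2⟩ := H27.Deg.constituent_dvd K χ θ hθ
      rw [Subgroup.index_eq_card, he, Nat.dvd_prime_pow hq] at h2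
      obtain ⟨j, -, hj⟩ := h2
      have hj0 : j = 0 := by
        by_contra hj0
        exact hqd ((dvd_pow_self q hj0).trans (hj ▸ Nat.div_dvd_of_dvd h1))
      rw [hj0, pow_zero] at hj
      have hdeg : Cfsg.charDegree χ.1 = Cfsg.charDegree θ.1 := (Nat.eq_of_dvd_of_div_eq_one h1 hj).symm
      have hres : Cfsg.IsIrrCharacter K fun n : K => χ.1 n := by
        rw [H27.Deg.restrict_eq_of_degree_eq K χ θ hθ hdeg]; exact θ.2
      let Ψ : Cfsg.IrrCharacter G := ⟨_, H45.isIrrCharacter_extMul K χ hres η⟩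
      have hΨ : Cfsg.charDegree Ψ.1 = Cfsg.charDegree χ.1 * Cfsg.charDegree η.1 := by
        show Nat.floor (Complex.re (χ.1 1 * η.1 (QuotientGroup.mk 1))) = _
        rw [QuotientGroup.mk_one, H43.irr_charDegree_spec, H43.irr_charDegree_spec, ← Nat.cast_mul,
          Complex.natCast_re, Nat.floor_natCast]
      have hpos := H43.irr_charDegree_pos χ
      have h3 := hnd' _ (mem_cd (H27.Deg.infl K η)) _ (mem_cd Ψ)
        (by rw [H27.Deg.charDegree_infl]; omega) (H43.irr_charDegree_pos Ψ)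
        (by rw [H27.Deg.charDegree_infl, hΨ]; exact dvd_mul_left _ _)
      rw [H27.Deg.charDegree_infl, hΨ] at h3
      have h4 : 2 ≤ Cfsg.charDegree χ.1 := by omega
      nlinarith
    have hqV : q ∈ Cfsg.degreePrimes G := ⟨hq, _, mem_cd (H27.Deg.infl K η), hall _ (by
      rw [H27.Deg.charDegree_infl]; omega)⟩
    refine no_hub htwo q hqV fun t ht => ?_
    obtain ⟨ht', d, ⟨χ, rfl⟩, htd⟩ := ht
    exact reach _ _ (mem_cd χ) htd (hall χ fun h => ht'.ne_one (Nat.dvd_one.1 (h ▸ htd)))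
  -- a Frobenius quotient
  set V := commutator (G ⧸ K) with hV
  set N := V.comap π with hN
  haveI hNn : N.Normal := Subgroup.Normal.comap inferInstance π
  haveI := Fintype.ofFinite N
  haveI := Fintype.ofFinite V
  set f := N.index with hf
  have hfV : f = V.index := Subgroup.index_comap_of_surjective V (QuotientGroup.mk'_surjective K)
  have hf1 : 1 < f := by
    refine lt_of_le_of_ne (Nat.pos_of_ne_zero Subgroup.index_ne_zero_of_finite) fun h => hVtop ?_
    exact Subgroup.index_eq_one.1 (hfV ▸ h.symm)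
  obtain ⟨b₀, hb₀, hb₁⟩ := (Subgroup.ne_bot_iff_exists_ne_one.1 hQ).elim
    fun v hv => (⟨v, v.2, fun h => hv (Subtype.ext h)⟩ : ∃ b ∈ V, b ≠ 1)
  -- linear characters of `V` are moved by every element outside
  have hmove : ∀ (β : V →* ℂˣ) (g : G ⧸ K), g ∉ V → (∀ v : V, β (MulAut.conjNormal g v) = β v) →
      β = 1 := by
    intro β g hg hfix
    refine MonoidHom.ext fun v => ?_
    obtain ⟨a, ha, hav⟩ := hcomm g hg v v.2
    have e : v = MulAut.conjNormal g (⟨a, ha⟩ : V) * (⟨a, ha⟩ : V)⁻¹ := Subtype.ext (by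
      rw [← hav, commutatorElement_def]; simp [MulAut.conjNormal_apply])
    rw [e, map_mul, map_inv, hfix, mul_inv_cancel, MonoidHom.one_apply]
  haveI : IsMulCommutative V := ⟨⟨fun a b => Subtype.ext (hab a a.2 b b.2)⟩⟩
  letI : CommGroup V := { (inferInstance : Group V) with mul_comm := fun a b => mul_comm' a b }
  obtain ⟨β₀, hβ₀⟩ : ∃ β : V →* ℂˣ, β ≠ 1 := by
    obtain ⟨β, hβ⟩ := CommGroup.exists_apply_ne_one_of_hasEnoughRootsOfUnity V ℂ
      (a := ⟨b₀, hb₀⟩) (fun h => hb₁ (congrArg Subtype.val h))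
    exact ⟨β, fun h => hβ (DFunLike.congr_fun h _)⟩
  have hfcd : f ∈ Cfsg.charDegrees G := by
    obtain ⟨χ, hχ⟩ := H27.Deg.exists_degree_of_inertia_eq V
      ⟨fun v => (β₀ v : ℂ), H26.isIrrCharacter_hom β₀⟩ (fun g hg => by
        by_contra hgV
        exact hβ₀ (hmove β₀ g hgV fun v => Units.ext (congrFun ((H44.mem_inertia V).1 hg) v)))
    refine ⟨H27.Deg.infl K χ, ?_⟩
    rw [H27.Deg.charDegree_infl, hχ, hfV]
    simp [Cfsg.charDegree]
  have hGN : commutator G ≤ N := fun c hc => by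
    rw [hN, Subgroup.mem_comap]; show π c ∈ V; rw [hcm]; exact Subgroup.mem_map_of_mem π hc
  have hKN : K ≤ N := fun a ha => by
    rw [hN, Subgroup.mem_comap, show π a = 1 from (QuotientGroup.eq_one_iff a).2 ha]
    exact V.one_mem
  -- `q` divides the non-linear degrees of `N`
  have hqN : ∀ ψ : Cfsg.IrrCharacter N, NL ψ → q ∣ Cfsg.charDegree ψ.1 := by
    intro ψ hψ
    by_contra hqd
    set KN := K.subgroupOf N
    haveI := Fintype.ofFinite KN
    let πN : N →* V := (π.comp N.subtype).codRestrict V fun n => n.2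
    have hπs : Function.Surjective πN := by
      rintro ⟨v, hv⟩
      obtain ⟨a, rfl⟩ := QuotientGroup.mk'_surjective K v
      exact ⟨⟨a, hv⟩, rfl⟩
    have hker : ∀ n ∈ KN, πN n = 1 := fun n hn =>
      Subtype.ext ((QuotientGroup.eq_one_iff (n : G)).2 (Subgroup.mem_subgroupOf.1 hn))
    obtain ⟨e, he⟩ := IsPGroup.iff_card.1 hVq
    have hidx : KN.index = q ^ e := by
      rw [← he, Subgroup.index]
      refine Nat.card_congr (Equiv.ofBijective (QuotientGroup.lift KN πN fun n hn => hker n hn)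
        ⟨?_, fun v => ?_⟩)
      · rw [injective_iff_map_eq_one]
        intro u hu
        obtain ⟨n, rfl⟩ := QuotientGroup.mk_surjective u
        exact (QuotientGroup.eq_one_iff n).2 (Subgroup.mem_subgroupOf.2
          ((QuotientGroup.eq_one_iff (n : G)).1 (congrArg Subtype.val hu)))
      · obtain ⟨n, hn⟩ := hπs v
        exact ⟨QuotientGroup.mk n, hn⟩
    obtain ⟨θ, hθ⟩ := exists_constituent KN ψ
    obtain ⟨h1, h2⟩ := H27.Deg.constituent_dvd KN ψ θ hθ
    rw [hidx, Nat.dvd_prime_pow hq] at h2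
    obtain ⟨j, -, hj⟩ := h2
    have hj0 : j = 0 := by
      by_contra hj0
      exact hqd ((dvd_pow_self q hj0).trans (hj ▸ Nat.div_dvd_of_dvd h1))
    rw [hj0, pow_zero] at hj
    have hres : Cfsg.IsIrrCharacter KN fun n : KN => ψ.1 n := by
      rw [H27.Deg.restrict_eq_of_degree_eq KN ψ θ hθ (Nat.eq_of_dvd_of_div_eq_one h1 hj).symm]
      exact θ.2
    let tw : (V →* ℂˣ) → Cfsg.IrrCharacter N := fun β => H43.irrTwist ψ (β.comp πN)
    have htw : ∀ β β', (tw β).1 = (tw β').1 → β = β' := by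
      intro β β' h
      have h3 := H45.linear_eq_one_of_mul_eq KN ψ hres ((β * β'⁻¹).comp πN)
        (fun n hn => by rw [MonoidHom.comp_apply, hker n hn, map_one])
        (fun n => by
          have h4 := congrFun h n
          simp only [tw, H43.irrTwist_apply, MonoidHom.comp_apply] at h4
          rw [MonoidHom.comp_apply, MonoidHom.mul_apply, MonoidHom.inv_apply, Units.val_mul,
            mul_comm _ (ψ.1 n), ← mul_assoc, h4, mul_assoc, Units.mul_inv, mul_one])
      refine mul_inv_eq_one.1 (MonoidHom.ext fun v => ?_)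
      obtain ⟨n, rfl⟩ := hπs v
      exact DFunLike.congr_fun h3 n
    have hconj : ∀ (g : G) (β : V →* ℂˣ) (n : N), H56.twist N (tw β).1 g n =
        H56.twist N ψ.1 g n *
          ((β.comp (MulAut.conjNormal (π g) : MulAut V).toMonoidHom).comp πN n : ℂ) := by
      intro g β n
      show (tw β).1 _ = _
      simp only [tw, H43.irrTwist_apply]
      refine congrArg (fun z : V => ψ.1 _ * (β z : ℂ)) (Subtype.ext ?_)
      show π (g * (n : G) * g⁻¹) = ((MulAut.conjNormal (π g) : MulAut V) (πN n) : G ⧸ K)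
      rw [map_mul, map_mul, map_inv, MulAut.conjNormal_apply]
      rfl
    -- some twist has inertia group `N`
    suffices ∃ β, H44.inertia N (tw β).1 ≤ N by
      obtain ⟨β, hβ⟩ := this
      obtain ⟨χ, hχ⟩ := H27.Deg.exists_degree_of_inertia_eq N (tw β) hβ
      rw [show Cfsg.charDegree (tw β).1 = Cfsg.charDegree ψ.1 from
        H43.charDegree_irrTwist ψ (β.comp πN)] at hχ
      have h3 := hnd' f hfcd _ (mem_cd χ) hf1 (H43.irr_charDegree_pos χ)
        (hχ ▸ dvd_mul_right _ _)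
      rw [hχ] at h3
      have h4 : 2 ≤ Cfsg.charDegree ψ.1 := by
        have := H43.irr_charDegree_pos ψ
        unfold NL at hψ; omega
      nlinarith
    by_contra hcon
    push Not at hcon
    have hfix : ∀ β, ∃ g, H56.twist N (tw β).1 g = (tw β).1 ∧ π g ∉ V := fun β => by
      obtain ⟨g, hg, hgN⟩ := SetLike.not_le_iff_exists.1 (hcon β)
      exact ⟨g, hg, hgN⟩
    obtain ⟨g, hg, hgV⟩ := hfix 1
    have htw1 : (tw 1).1 = ψ.1 := funext fun n => by
      simp [tw, H43.irrTwist_apply]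
    rw [htw1] at hg
    have huniq : ∀ β, H56.twist N (tw β).1 g = (tw β).1 → β = 1 := by
      intro β hβ
      refine hmove β (π g) hgV fun v => ?_
      refine DFunLike.congr_fun (htw (β.comp (MulAut.conjNormal (π g) : MulAut V).toMonoidHom) β ?_) v
      funext n
      rw [← congrFun hβ n, hconj, hg]
      exact H43.irrTwist_apply _ _ _
    obtain ⟨g', hg', hgV'⟩ := hfix β₀
    set β' := β₀.comp (MulAut.conjNormal (π g') : MulAut V).toMonoidHom with hβ'
    have hν : (tw (β₀ * β'⁻¹)).1 = H56.twist N ψ.1 g' := by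
      funext n
      have h4 := congrFun hg' n
      rw [hconj] at h4
      simp only [tw, H43.irrTwist_apply, MonoidHom.comp_apply] at h4 ⊢
      rw [MonoidHom.mul_apply, MonoidHom.inv_apply, Units.val_mul, ← mul_assoc, ← h4, mul_assoc]
      simp [hβ']
    have hν1 : β₀ * β'⁻¹ = 1 := by
      refine huniq _ ?_
      rw [hν, H56.twist_twist]
      have hc : ⁅g', g⁆ ∈ N := hGN (Subgroup.commutator_mem_commutator (Subgroup.mem_top _)
        (Subgroup.mem_top _))
      have hcf : H56.twist N ψ.1 ⁅g', g⁆ = ψ.1 :=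
        (H44.mem_inertia N).1 (H44.le_inertia N (H26.irr_isClassFunction ψ) hc)
      rw [show g' * g = ⁅g', g⁆ * (g * g') by rw [commutatorElement_def]; group,
        ← H56.twist_twist, hcf, ← H56.twist_twist, hg]
    exact hβ₀ (hmove β₀ (π g') hgV' fun v =>
      show β' v = β₀ v from (DFunLike.congr_fun (mul_inv_eq_one.1 hν1) v).symm)
  -- above a non-linear character of `N`
  have hovr : ∀ χ : Cfsg.IrrCharacter G, ∀ ψ : Cfsg.IrrCharacter N,
      Cfsg.classInner (fun n : N => χ.1 n) ψ.1 ≠ 0 → NL ψ →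
      Cfsg.charDegree χ.1 = Cfsg.charDegree ψ.1 ∧ Nat.Coprime (Cfsg.charDegree ψ.1) f ∧
        ∀ g, H56.twist N ψ.1 g = ψ.1 := by
    intro χ ψ h hψ
    obtain ⟨h1, h2⟩ := H27.Deg.constituent_dvd N χ ψ h
    have hqd : q ∣ Cfsg.charDegree χ.1 := (hqN ψ hψ).trans h1
    have hcop : Nat.Coprime (Cfsg.charDegree χ.1) f := by
      by_contra hcp
      obtain ⟨s, hs, hsd, hsf⟩ := Nat.Prime.not_coprime_iff_dvd.1 hcp
      have hqV : q ∈ Cfsg.degreePrimes G := ⟨hq, _, mem_cd χ, hqd⟩
      have hsV : s ∈ Cfsg.degreePrimes G := ⟨hs, f, hfcd, hsf⟩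
      refine no_hub htwo q hqV fun t ht => ?_
      obtain ⟨ht', d, ⟨χ', rfl⟩, htd⟩ := id ht
      obtain ⟨ψ', hψ'⟩ := exists_constituent N χ'
      obtain ⟨h3, h4⟩ := H27.Deg.constituent_dvd N χ' ψ' hψ'
      by_cases hn : NL ψ'
      · exact reach ht hqV (mem_cd χ') htd ((hqN ψ' hn).trans h3)
      · rw [not_not.1 hn, Nat.div_one] at h4
        exact (reach ht hsV hfcd (htd.trans h4) hsf).trans (reach hsV hqV (mem_cd χ) hsd hqd)
    have h5 : Cfsg.charDegree χ.1 / Cfsg.charDegree ψ.1 = 1 :=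
      Nat.eq_one_of_dvd_coprimes hcop (Nat.div_dvd_of_dvd h1) h2
    have heq := (Nat.eq_of_dvd_of_div_eq_one h1 h5).symm
    refine ⟨heq, heq ▸ hcop, fun g => ?_⟩
    funext n
    show ψ.1 _ = ψ.1 n
    rw [← H27.Deg.restrict_eq_of_degree_eq N χ ψ h heq]
    exact H26.irr_conj χ (n : G) g
  obtain ⟨ψ₀, hψ₀⟩ : ∃ ψ : Cfsg.IrrCharacter N, NL ψ := by
    by_contra hno
    push Not at hno
    obtain ⟨s, hs, hsf⟩ := Nat.exists_prime_and_dvd (n := f) (by omega)
    have hsV : s ∈ Cfsg.degreePrimes G := ⟨hs, f, hfcd, hsf⟩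
    refine no_hub htwo s hsV fun t ht => ?_
    obtain ⟨ht', d, ⟨χ', rfl⟩, htd⟩ := id ht
    obtain ⟨ψ', hψ'⟩ := exists_constituent N χ'
    obtain ⟨h3, h4⟩ := H27.Deg.constituent_dvd N χ' ψ' hψ'
    rw [not_not.1 (hno ψ'), Nat.div_one] at h4
    exact reach ht hsV hfcd (htd.trans h4) hsf
  have habove : ∀ ψ : Cfsg.IrrCharacter N, NL ψ → Cfsg.charDegree ψ.1 ∈ Cfsg.charDegrees G ∧
      Nat.Coprime (Cfsg.charDegree ψ.1) f ∧ ∀ g, H56.twist N ψ.1 g = ψ.1 := fun ψ hψ => by
    obtain ⟨χ, hχ⟩ := H44.exists_irr_over N ψ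
    obtain ⟨h1, h2, h3⟩ := hovr χ ψ hχ hψ
    exact ⟨h1 ▸ mem_cd χ, h2, h3⟩
  -- the data
  obtain ⟨r, hr, hrf⟩ := Nat.exists_prime_and_dvd (n := f) (by omega)
  haveI := Fact.mk hr
  let P : Sylow r G := default
  obtain ⟨g, hgP, hgN⟩ : ∃ g ∈ (P : Subgroup G), g ∉ N := by
    by_contra hc
    push Not at hc
    exact P.not_dvd_index (hrf.trans (Subgroup.index_dvd_of_le hc))
  obtain ⟨k, hk⟩ := P.isPGroup' ⟨g, hgP⟩
  have hgk : g ^ r ^ k = 1 := congrArg Subtype.val hk
  let σ : MulAut N := MulAut.conjNormal g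
  have hgV : π g ∉ V := hgN
  obtain ⟨v, hv, hvb⟩ := hcomm (π g) hgV b₀ hb₀
  obtain ⟨a₀, rfl⟩ := QuotientGroup.mk'_surjective K v
  set m := Nat.card N / q ^ (Nat.card N).factorization q with hm
  set x : N := (⟨a₀, hv⟩ : N) ^ m with hx
  have hxq : ∃ n : ℕ, x ^ q ^ n = 1 := ⟨(Nat.card N).factorization q, by
    rw [hx, ← pow_mul, hm, Nat.div_mul_cancel (Nat.ordProj_dvd _ q), pow_card_eq_one']⟩
  have hKNc : ∀ c ∈ commutator N, π (c : G) = 1 := by
    intro c hc
    let πN : N →* V := (π.comp N.subtype).codRestrict V fun n => n.2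
    exact congrArg Subtype.val (MonoidHom.mem_ker.1 (Abelianization.commutator_subset_ker πN hc))
  have hxJ : x ∉ fixMod σ := by
    intro hJ
    have h1 : σ x * x⁻¹ ∈ commutator N := mem_of_of_eq_one (by
      rw [map_mul, map_inv, mem_fixMod.1 hJ, mul_inv_cancel])
    have h2 := hKNc _ h1
    have h3 : π ((σ x * x⁻¹ : N) : G) = ⁅π g, π a₀ ^ m⁆ := by
      rw [commutatorElement_def]
      simp [σ, hx, MulAut.conjNormal_apply, map_mul, map_inv, map_pow]
    rw [h3] at h2
    have h4 : ∀ j : ℕ, ⁅π g, π a₀ ^ j⁆ = b₀ ^ j := by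
      intro j
      induction j with
      | zero => simp
      | succ j ih =>
        rw [pow_succ' (π a₀), pow_succ' b₀, ← ih, ← hvb]
        have e : ⁅π g, π a₀ * π a₀ ^ j⁆ =
            ⁅π g, π a₀⁆ * (π a₀ * ⁅π g, π a₀ ^ j⁆ * (π a₀)⁻¹) := by
          simp only [commutatorElement_def]; group
        rw [e]
        congr 1
        rw [hab (π a₀) hv _ (by
          rw [ih]; exact V.pow_mem hb₀ j), mul_inv_cancel_right]
    rw [h4] at h2
    have hord : ∃ i, orderOf b₀ = q ^ i := by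
      obtain ⟨i, hi⟩ := hVq ⟨b₀, hb₀⟩
      obtain ⟨i', -, hi'⟩ := (Nat.dvd_prime_pow hq).1
        (orderOf_dvd_of_pow_eq_one (congrArg Subtype.val hi : b₀ ^ q ^ i = 1))
      exact ⟨i', hi'⟩
    obtain ⟨i, hi⟩ := hord
    have hcop : Nat.Coprime (q ^ i) m :=
      Nat.Coprime.pow_left _ ((Nat.Prime.coprime_iff_not_dvd hq).2
        (Nat.not_dvd_ordCompl hq Nat.card_pos.ne'))
    have := Nat.Coprime.eq_one_of_dvd (hi ▸ hcop) (orderOf_dvd_of_pow_eq_one h2)
    exact hb₁ (orderOf_eq_one_iff.1 this)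
  let D : Data N :=
    { q := q, hq := hq, r := r, hr := hr, σ := σ, k := k
      hσk := by
        show (MulAut.conjNormal g : MulAut N) ^ r ^ k = 1
        rw [← map_pow, hgk, map_one]
      x := x, hxq := hxq, hx := hxJ, dvdq := hqN
      ndvdr := fun χ hχ h => (Nat.Prime.not_coprime_iff_dvd.2 ⟨r, hr, h, hrf⟩) (habove χ hχ).2.1
      inv := fun χ hχ h => congrFun ((habove χ hχ).2.2 g) h
      nd := fun χ χ' hχ hχ' h => hnd' _ (habove χ hχ).1 _ (habove χ' hχ').1
        (by have := H43.irr_charDegree_pos χ; unfold NL at hχ; omega)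
        (H43.irr_charDegree_pos χ') h }
  set a := Cfsg.charDegree ψ₀.1
  have ha1 : a ≠ 1 := hψ₀
  have haf : a ≠ f := fun h => by
    have := (habove ψ₀ hψ₀).2.1
    rw [show Cfsg.charDegree ψ₀.1 = f from h, Nat.coprime_self] at this
    omega
  have hset : Cfsg.charDegrees G = {1, f, a} := by
    refine Set.Subset.antisymm ?_ ?_
    · rintro d ⟨χ, rfl⟩
      obtain ⟨ψ, hψ⟩ := exists_constituent N χ
      by_cases hn : NL ψ
      · right; right
        rw [Set.mem_singleton_iff, (hovr χ ψ hψ hn).1, degree_eq D ψ ψ₀ hn hψ₀]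
      · have h4 := (H27.Deg.constituent_dvd N χ ψ hψ).2
        rw [not_not.1 hn, Nat.div_one] at h4
        by_cases h1 : Cfsg.charDegree χ.1 = 1
        · left; exact h1
        · right; left
          exact hnd' _ (mem_cd χ) f hfcd
            (by have := H43.irr_charDegree_pos χ; omega) (by omega) h4
    · intro d hd
      rcases hd with rfl | rfl | rfl
      · exact ⟨H26.oneIrr G, H27.Deg.charDegree_oneIrr⟩
      · exact hfcd
      · exact (habove ψ₀ hψ₀).1
  rw [Nat.card_coe_set_eq, hset]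
  exact Set.ncard_eq_three.2 ⟨1, f, a, by omega, fun h => ha1 h.symm, fun h => haf h.symm, rfl⟩

end Cfsg.Agent.H69.NonDiv
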